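import Cfsg.Agent.H100.Ppd.Basic
import Cfsg.Agent.S2653
import Cfsg.Agent.S2119
import Cfsg.Agent.S0254
import Cfsg.Agent.S0813
import Cfsg.Agent.H934.OutCl
import Mathlib.GroupTheory.Perm.Cycle.Type

/-!
# TEAM PPD (S5948), PPD-B-alt: alternating groups do not occur (helper38)

`row_alt` : a row `P` with `Soc P` alternating is impossible.
-/

set_option autoImplicit false
set_option linter.unusedSectionVars false

namespace Cfsg.Agent.H38.Ppd

open Cfsg Cfsg.Geo Matrix
open Cfsg.Agent.H915.LD Cfsg.Agent.H100.Ppd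

universe u v w

/-- A permutation of `N` points, the order of which has only prime divisors `> N / 2`, has order `≤ N`. -/
theorem orderOf_le_of_primes {N m : ℕ} (σ : Equiv.Perm (Fin N)) (hσ : orderOf σ = m) (hm : m ≠ 1)
    (hp : ∀ r, r.Prime → r ∣ m → N < 2 * r) : m ≤ N := by
  rw [← Equiv.Perm.lcm_cycleType] at hσ
  have hsum : σ.cycleType.sum ≤ N := by
    have := Equiv.Perm.sum_cycleType_le σ
    rwa [Fintype.card_fin] at this
  obtain ⟨r, hr, hrm⟩ := Nat.exists_prime_and_dvd hm
  -- a cycle of length divisible by `r`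
  have hex : ∀ r, r.Prime → ∀ s : Multiset ℕ, r ∣ s.lcm → ∃ l ∈ s, r ∣ l := by
    intro r hr s
    induction s using Multiset.induction_on with
    | empty =>
      intro h
      rw [Multiset.lcm_zero] at h
      exact absurd (Nat.dvd_one.1 h) hr.one_lt.ne'
    | cons a s ih =>
      intro h
      rw [Multiset.lcm_cons] at h
      rcases (Nat.Prime.dvd_lcm hr).1 h with h1 | h1
      · exact ⟨a, Multiset.mem_cons_self _ _, h1⟩
      · obtain ⟨l, hl, hl'⟩ := ih h1
        exact ⟨l, Multiset.mem_cons_of_mem hl, hl'⟩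
  obtain ⟨l, hl, hrl⟩ := hex r hr σ.cycleType (by rw [hσ]; exact hrm)
  have hl2 : 2 ≤ l := Equiv.Perm.two_le_of_mem_cycleType hl
  obtain ⟨s, hs⟩ := Multiset.exists_cons_of_mem hl
  rw [hs, Multiset.sum_cons] at hsum
  rw [hs, Multiset.lcm_cons] at hσ
  have hlN : r ≤ l := Nat.le_of_dvd (by omega) hrl
  -- the other cycles
  have hone : s.lcm = 1 := by
    by_contra h1
    obtain ⟨t, ht, hts⟩ := Nat.exists_prime_and_dvd h1
    obtain ⟨l', hl', htl⟩ := hex t ht s hts
    have hl'2 : 2 ≤ l' := Equiv.Perm.two_le_of_mem_cycleType (σ := σ) (by rw [hs]; exact Multiset.mem_cons_of_mem hl')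
    have h2 : l' ≤ s.sum := Multiset.single_le_sum (fun _ _ => Nat.zero_le _) _ hl'
    have h3 : t ≤ l' := Nat.le_of_dvd (by omega) htl
    have h4 : t ∣ m := by
      rw [← hσ]
      exact hts.trans (Nat.dvd_lcm_right _ _)
    have h5 := hp t ht h4
    have h6 := hp r hr hrm
    omega
  rw [hone] at hσ
  have h7 : m = l := by
    rw [← hσ]
    exact Nat.lcm_one_right l
  omega

/-- `|Aut(A₆)| = 1440` -/
theorem card_aut_six : Nat.card (MulAut (alternatingGroup (Fin 6))) = 1440 := by
  have : Fact (Nat.Prime 3) := ⟨Nat.prime_three⟩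
  have h1 : Nat.card (GaloisField 3 2) = 9 := by
    rw [GaloisField.card 3 2 (by norm_num)]
    norm_num
  have : Fintype (GaloisField 3 2) := Fintype.ofFinite _
  rw [Nat.card_eq_fintype_card] at h1
  obtain ⟨e⟩ := Cfsg.Agent.S0254.result (F := GaloisField 3 2) h1
  rw [← Nat.card_congr (MulAut.congr e).toEquiv]
  have h2 := Cfsg.Agent.S0813.result (F := GaloisField 3 2) 3 2 (by norm_num) (by rw [h1]; norm_num) 2 (le_refl 2)
    (fun _ => by norm_num)
  rw [h2, if_pos rfl, H934.OutCl.card_pgl (le_refl 2), h1, Nat.card_congr e.toEquiv, Nat.card_eq_fintype_card]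
  have h3 := two_mul_card_alternatingGroup (α := Fin 6)
  rw [Fintype.card_perm, Fintype.card_fin] at h3
  have h4 : Nat.factorial 6 = 720 := by decide
  rw [h4] at h3
  have h5 : Nat.gcd 2 (9 - 1) = 2 := by decide
  rw [h5]
  have h6 : Fintype.card (alternatingGroup (Fin 6)) = 360 := by omega
  rw [h6]

variable {n : ℕ} {F : Type u} [Field F] [Finite F] {k m : ℕ} {P : Subgroup (GL (Fin n) F)}

/-- **PPD-B-alt.** -/
theorem row_alt (h : Row k m P) (hT : IsAlternating (Soc P)) : False := by
  obtain ⟨N, hN5, ⟨e⟩⟩ := hT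
  have hm1 : m ≠ 1 := by
    have := h.num.mlt
    omega
  by_cases h6 : N = 6
  · subst h6
    obtain ⟨r, hr, hrm⟩ := h.num.exists_prime
    have h1 := hrm.trans (h.dvd_card e)
    rw [card_aut_six] at h1
    have h7 := h.num.seven_le hr hrm
    have h2 : r ∣ 2 ^ 5 * 3 ^ 2 * 5 := h1
    rcases (Nat.Prime.dvd_mul hr).1 h2 with h3 | h3
    · rcases (Nat.Prime.dvd_mul hr).1 h3 with h4 | h4
      · have := Nat.le_of_dvd (by norm_num) (hr.dvd_of_dvd_pow h4)
        omega
      · have := Nat.le_of_dvd (by norm_num) (hr.dvd_of_dvd_pow h4)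
        omega
    · have := Nat.le_of_dvd (by norm_num) h3
      omega
  · have hle : N ≤ 2 * k + 1 := by
      by_cases h9 : 9 ≤ N
      · have : Fintype F := Fintype.ofFinite F
        have hp : Fact (ringChar F).Prime := ⟨(CharP.char_is_prime F (ringChar F))⟩
        have h1 := Cfsg.Agent.S2653.result (F := F) (ringChar F) n N P ((scalars (Fin n) F).subgroupOf P) ⟨e⟩ h9
        have h2 := h.num.nlt
        split_ifs at h1 <;> omega
      · have := h.num.six_le
        omega
    have hp : ∀ r, r.Prime → r ∣ m → N < 2 * r := by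
      intro r hr hrm
      by_cases h9 : 9 ≤ N
      · have : Fintype F := Fintype.ofFinite F
        have hp : Fact (ringChar F).Prime := ⟨(CharP.char_is_prime F (ringChar F))⟩
        have h1 := Cfsg.Agent.S2653.result (F := F) (ringChar F) n N P ((scalars (Fin n) F).subgroupOf P) ⟨e⟩ h9
        have h2 := h.num.le_two_mul hr hrm
        split_ifs at h1 <;> omega
      · have := h.num.seven_le hr hrm
        omega
    obtain ⟨x, hx⟩ := h.exists_aut' e
    obtain ⟨σ, hσ⟩ := (Cfsg.Agent.S2119.result N (by omega) h6).2 x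
    have h1 : orderOf σ = m := by
      rw [← hx, ← hσ]
      exact (orderOf_injective _ (Cfsg.Agent.S2119.result N (by omega) h6).1 σ).symm
    have h2 := orderOf_le_of_primes σ h1 hm1 hp
    have h3 := h.num.mlt
    omega

end Cfsg.Agent.H38.Ppd
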