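import Cfsg.Agent.H100.Ppd.Basic
import Cfsg.Agent.H287.Ppd.Fusion
import Cfsg.Agent.H203.BdSL2
import Cfsg.Agent.H912.MultChar
import Cfsg.Agent.H714.PslRow
import Cfsg.Agent.S2475
import Cfsg.Agent.S2602
import Cfsg.Agent.S0813
import Cfsg.Agent.H934.OutCl

/-!
# TEAM PPD (S5948), PPD-B-psl2: `PSL_2(s)` in cross characteristic (helper38)

`row_psl2` : a row `P` with `Soc P ≅ PSL_2(s)`, `s` prime to `|F|`, is impossible. An element of order `m` of `PSL_2(s)`
has `m ∣ (s ± 1) / gcd(2, s - 1) ≤ 2 k + 1` or `m = s` prime; the latter is excluded by fusion.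
-/

set_option autoImplicit false
set_option linter.unusedSectionVars false

namespace Cfsg.Agent.H38.Ppd

open Cfsg Cfsg.Geo Matrix
open Cfsg.Agent.H915.LD Cfsg.Agent.H100.Ppd

universe u v w

theorem card_out_psl2 {K : Type v} [Field K] [Fintype K] {p f : ℕ} [Fact p.Prime] (hf : 1 ≤ f)
    (hF : Fintype.card K = p ^ f) (h4 : 4 ≤ p ^ f) :
    Nat.card (Cfsg.Out (ProjectiveSpecialLinearGroup (Fin 2) K)) = Nat.gcd 2 (p ^ f - 1) * f := by
  obtain ⟨φ, hφ, -, hk⟩ := Cfsg.Agent.S2602.result (F := K) hf hF h4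
  rw [Subgroup.card_eq_card_quotient_mul_card_subgroup φ.ker, hk,
    Nat.card_congr (QuotientGroup.quotientKerEquivOfSurjective φ hφ).toEquiv,
    Nat.card_congr (Multiplicative.toAdd (α := ZMod f)), Nat.card_zmod, mul_comm]

theorem four_mul_le {f : ℕ} (hf : 4 ≤ f) : 4 * f ≤ 2 ^ f := by
  obtain ⟨j, rfl⟩ : ∃ j, f = j + 4 := ⟨f - 4, by omega⟩
  have h1 : j < 2 ^ j := Nat.lt_two_pow_self
  rw [pow_add]
  omega

/-- no prime `≥ 7` divides `2 ^ a * 3 ^ b * 5 ^ c` -/
theorem kill_small {n : ℕ} {F : Type u} [Field F] [Finite F] {k m : ℕ} {P : Subgroup (GL (Fin n) F)}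
    {T : Type v} [Group T] (h : Row k m P) (e : Soc P ≃* T) {a b c : ℕ}
    (hA : Nat.card (MulAut T) ∣ 2 ^ a * 3 ^ b * 5 ^ c) : False := by
  obtain ⟨r, hr, hrm⟩ := h.num.exists_prime
  have h1 := (hrm.trans (h.dvd_card e)).trans hA
  have h7 := h.num.seven_le hr hrm
  rcases (Nat.Prime.dvd_mul hr).1 h1 with h3 | h3
  · rcases (Nat.Prime.dvd_mul hr).1 h3 with h4 | h4
    · have := Nat.le_of_dvd (by norm_num) (hr.dvd_of_dvd_pow h4)
      omega
    · have := Nat.le_of_dvd (by norm_num) (hr.dvd_of_dvd_pow h4)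
      omega
  · have := Nat.le_of_dvd (by norm_num) (hr.dvd_of_dvd_pow h3)
    omega

theorem card_pgl2 {K : Type v} [Field K] [Fintype K] :
    Nat.card (ProjGenLinGroup (Fin 2) K) * (Fintype.card K - 1) =
      (Fintype.card K ^ 2 - 1) * (Fintype.card K ^ 2 - Fintype.card K) := by
  have h2 : Nat.card (ProjGenLinGroup (Fin 2) K) * (Fintype.card K - 1) = Nat.card (GL (Fin 2) K) :=
    Cfsg.Agent.ClassicalGeometry.PSL2Basic.card_PGL_mul (Fin 2) K
  rw [Matrix.card_GL_field, Fin.prod_univ_two] at h2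
  simpa using h2

variable {n : ℕ} {F : Type u} [Field F] [Finite F] {k m : ℕ} {P : Subgroup (GL (Fin n) F)}

/-- Fusion of the elements of order `r` of `PSL_2(r)`: `r - 1` divides `2 k`. -/
theorem fusion_kill (h : Row k m P) {r : ℕ} (hr : r.Prime) (hrm : r ∣ m) (hrk : 2 * k + 1 < r) {K : Type} [Field K]
    [Fintype K] [CharP K r] (hK : Fintype.card K = r) (e : Soc P ≃* ProjectiveSpecialLinearGroup (Fin 2) K) :
    False := by
  classical
  have : Fact r.Prime := ⟨hr⟩
  obtain ⟨g, hgen⟩ := IsCyclic.exists_generator (α := Kˣ)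
  have hgo : orderOf g = r - 1 := by
    rw [orderOf_eq_card_of_forall_mem_zpowers hgen, Nat.card_eq_fintype_card, Fintype.card_units, hK]
  -- `g²` as a natural number
  obtain ⟨a, ha⟩ : ∃ a : ℕ, (a : K) = (g : K) ^ 2 := by
    obtain ⟨a, ha⟩ := ZMod.natCast_zmod_surjective ((ZMod.ringEquivOfPrime K hr hK).symm ((g : K) ^ 2))
    refine ⟨a, ?_⟩
    rw [← (ZMod.ringEquivOfPrime K hr hK).apply_symm_apply ((g : K) ^ 2), ← ha, map_natCast]
  let φ : SpecialLinearGroup (Fin 2) K →* ProjectiveSpecialLinearGroup (Fin 2) K :=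
    QuotientGroup.mk' (Subgroup.center _)
  have hpow : ∀ b : ℕ, H203.BdSL2.up (b : K) = H203.BdSL2.up (1 : K) ^ b := by
    intro b
    induction b with
    | zero => rw [Nat.cast_zero, H203.BdSL2.up_zero, pow_zero]
    | succ b ih => rw [Nat.cast_succ, H203.BdSL2.up_add, ih, pow_succ]
  have hx : orderOf (φ (H203.BdSL2.up (1 : K))) = r := by
    apply orderOf_eq_prime
    · rw [← map_pow, ← hpow, CharP.cast_eq_zero, H203.BdSL2.up_zero, map_one]
    · intro h1
      have h2 : H203.BdSL2.up (1 : K) ∈ Subgroup.center _ := (QuotientGroup.eq_one_iff _).1 h1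
      exact one_ne_zero (H203.BdSL2.up_center h2)
  have hy : φ (H203.BdSL2.dg g) * φ (H203.BdSL2.up (1 : K)) * (φ (H203.BdSL2.dg g))⁻¹ =
      φ (H203.BdSL2.up (1 : K)) ^ a := by
    rw [← map_mul, H203.BdSL2.dg_up, map_mul, mul_inv_cancel_right, mul_one, ← ha, hpow, map_pow]
  obtain ⟨i, hi⟩ := H287.Ppd.Row.conj_pow' h e hr hrm hx hy
  have h1 : (a : ZMod r) ^ k = 1 := by
    have h2 : (a : ZMod r) = (Nat.card F : ZMod r) ^ i := by
      rw [← Nat.cast_pow]
      exact (ZMod.natCast_eq_natCast_iff _ _ _).2 hi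
    rw [h2, ← pow_mul]
    exact (h.num.pow_eq_one_iff hr hrm _).2 (dvd_mul_left _ _)
  have h2 : (a : K) ^ k = 1 := by
    have h3 := congrArg (ZMod.ringEquivOfPrime K hr hK) h1
    rwa [map_pow, map_natCast, map_one] at h3
  rw [ha, ← pow_mul] at h2
  have h3 : g ^ (2 * k) = 1 := Units.ext (by rw [Units.val_pow_eq_pow_val, h2, Units.val_one])
  have h4 := Nat.le_of_dvd (by have := h.num.six_le; omega) (orderOf_dvd_of_pow_eq_one h3)
  rw [hgo] at h4
  omega

/-- **PPD-B-psl2.** -/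
theorem row_psl2 (h : Row k m P) {r : ℕ} (hr : r.Prime) (hrF : (r : F) ≠ 0) {K : Type} [Field K] [Fintype K]
    [CharP K r] (h4 : 4 ≤ Fintype.card K) (e : Soc P ≃* ProjectiveSpecialLinearGroup (Fin 2) K) : False := by
  have : Fact r.Prime := ⟨hr⟩
  obtain ⟨f', hf', hK⟩ := FiniteField.card K r
  obtain ⟨f, hf, hff⟩ : ∃ f : ℕ, 1 ≤ f ∧ (f' : ℕ) = f := ⟨f', f'.pos, rfl⟩
  rw [hff] at hK
  have hAut := Cfsg.Agent.S0813.result (F := K) r f hf hK 2 (le_refl 2) (fun _ => hK ▸ h4)
  rw [if_pos rfl, one_mul] at hAut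
  have hpgl := card_pgl2 (K := K)
  by_cases h4' : Fintype.card K = 4
  · have hf2 : f = 2 := by
      have h1 : r ∣ 2 ^ 2 := by
        have := H912.Bd.char_dvd_card (r := r) K
        rwa [h4'] at this
      have h2 : r = 2 := H912.Bd.eq_of_dvd_prime_pow hr Nat.prime_two h1
      rw [h2, h4'] at hK
      exact (Nat.pow_right_injective (le_refl 2) (show 2 ^ 2 = 2 ^ f from hK)).symm
    rw [h4'] at hpgl
    have h60 : Nat.card (ProjGenLinGroup (Fin 2) K) = 60 := by omega
    rw [h60, hf2] at hAut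
    exact kill_small h e (a := 3) (b := 1) (c := 1) (by rw [hAut]; norm_num)
  by_cases h9 : Fintype.card K = 9
  · have hf2 : f = 2 := by
      have h1 : r ∣ 3 ^ 2 := by
        have := H912.Bd.char_dvd_card (r := r) K
        rwa [h9] at this
      have h2 : r = 3 := H912.Bd.eq_of_dvd_prime_pow hr Nat.prime_three h1
      rw [h2, h9] at hK
      exact (Nat.pow_right_injective (le_refl 2 |>.trans (by norm_num)) (show 3 ^ 2 = 3 ^ f from hK)).symm
    rw [h9] at hpgl
    have h720 : Nat.card (ProjGenLinGroup (Fin 2) K) = 720 := by omega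
    rw [h720, hf2] at hAut
    exact kill_small h e (a := 5) (b := 2) (c := 1) (by rw [hAut]; norm_num)
  have hno : H912.Bd.NoR.{u} r (ProjectiveSpecialLinearGroup (Fin 2) K) := by
    refine H912.Bd.NoR.of_cyclic (S2086.result (F := K) rfl 2 (le_refl 2) (fun _ => h4) ?_)
      (H912.Bd.coprime_gcd_sub hr Fintype.card_pos (H912.Bd.char_dvd_card K))
    intro hmem
    simp only [Set.mem_insert_iff, Set.mem_singleton_iff, Prod.mk.injEq] at hmem
    omega
  have hpr := H912.Bd.PR.of_noR hno P h.core.perfect e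
  have hle : (Fintype.card K - 1) / Nat.gcd 2 (Fintype.card K - 1) ≤ n := by
    refine H203.BdSL2.bd_of_sl2 (F := F) (K := K) hr rfl hrF (QuotientGroup.mk' (Subgroup.center _)) ?_ n hpr
    rw [QuotientGroup.ker_mk']
  set s := Fintype.card K with hs
  have hg : Nat.gcd 2 (s - 1) = 1 ∨ Nat.gcd 2 (s - 1) = 2 := by
    have h1 := (Nat.dvd_prime Nat.prime_two).1 (Nat.gcd_dvd_left 2 (s - 1))
    exact h1
  have hsk : s ≤ 4 * k := by
    have h1 := h.num.nlt
    rcases hg with hg | hg <;> rw [hg] at hle <;> omega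
  -- `m` is prime to `|Out|`
  have hcop : m.Coprime (Nat.card (Cfsg.Out (ProjectiveSpecialLinearGroup (Fin 2) K))) := by
    rw [card_out_psl2 hf hK (by rw [← hK]; exact h4)]
    refine Nat.coprime_of_dvd ?_
    intro t ht htm hto
    have h7 := h.num.seven_le ht htm
    rcases (Nat.Prime.dvd_mul ht).1 hto with h1 | h1
    · have := Nat.le_of_dvd (by norm_num) (h1.trans (Nat.gcd_dvd_left _ _))
      omega
    · have h2 := Nat.le_of_dvd (by omega) h1
      have h3 := h.num.succ_le ht htm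
      have h5 := four_mul_le (f := f) (by omega)
      have h6 : 2 ^ f ≤ r ^ f := Nat.pow_le_pow_left hr.two_le f
      omega
  obtain ⟨y, hy⟩ := h.exists_elt e hcop
  have hspec : m ∈ Set.range (orderOf : ProjectiveSpecialLinearGroup (Fin 2) K → ℕ) := ⟨y, hy⟩
  rw [Cfsg.Agent.S2475.result (F := K) r h4] at hspec
  have hmlt := h.num.mlt
  have hnlt := h.num.nlt
  rcases hspec with h1 | h1 | h1
  · -- `m = r`
    have hm : m = r := by
      rcases (Nat.dvd_prime hr).1 h1 with h2 | h2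
      · omega
      · exact h2
    have hf1 : f = 1 := by
      by_contra hne
      have h2 : r ^ 2 ≤ s := by rw [hK]; exact Nat.pow_le_pow_right hr.pos (by omega)
      have h3 : r * 4 ≤ r ^ 2 := by
        rw [pow_two]
        exact Nat.mul_le_mul_left _ (by have := h.num.six_le; omega)
      omega
    rw [hf1, pow_one] at hK
    exact fusion_kill h hr (by rw [hm]) (by omega) hK e
  · have h2 := Nat.le_of_dvd ?_ h1
    · rw [← hs] at h2
      omega
    · rcases hg with hg | hg <;> rw [← hs, hg] <;> omega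
  · have h2 := Nat.le_of_dvd ?_ h1
    · rcases hg with hg | hg <;> rw [← hs, hg] at h2 <;> rw [hg] at hle <;> omega
    · rcases hg with hg | hg <;> rw [← hs, hg] <;> omega

end Cfsg.Agent.H38.Ppd
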