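import Cfsg.Agent.H100.Ppd.Basic
import Cfsg.Agent.H175.BdSp
import Cfsg.Agent.H912.MultChar
import Cfsg.Agent.S0814
import Cfsg.Agent.S0245
import Cfsg.Agent.S0246
import Cfsg.Agent.S2092
import Cfsg.Agent.OddHalf.Orders.PSpFi23

/-!
# TEAM PPD (S5948), PPD-B-psp: `PSp_2N(s)` in cross characteristic (helper38)

`row_psp` : a row `P` with `Soc P ≅ PSp_2N(s)`, `s` prime to `|F|`, is impossible.
-/

set_option autoImplicit false
set_option linter.unusedSectionVars false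

namespace Cfsg.Agent.H38.Ppd

open Cfsg Cfsg.Geo Matrix Finset
open Cfsg.Agent.H915.LD Cfsg.Agent.H100.Ppd

universe u v w

/-! ### Arithmetic -/

/-- `2 f |Sp_2N(s)|` -/
def spA (s N f : ℕ) : ℕ := 2 * f * (s ^ (N ^ 2) * ∏ i ∈ range N, (s ^ (2 * (i + 1)) - 1))

theorem sq_sub_one {s j : ℕ} : s ^ (2 * j) - 1 = (s ^ j - 1) * (s ^ j + 1) := by
  have h : s ^ (2 * j) = s ^ j * s ^ j := by rw [two_mul, pow_add]
  rw [h]
  generalize s ^ j = x
  rcases Nat.eq_zero_or_pos x with h0 | h0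
  · subst h0; simp
  · obtain ⟨y, rfl⟩ : ∃ y, x = y + 1 := ⟨x - 1, by omega⟩
    have : (y + 1) * (y + 1) - 1 = y * (y + 2) := by
      have : (y + 1) * (y + 1) = y * (y + 2) + 1 := by ring
      omega
    rw [this]
    simp

theorem exists_factor {s N f ℓ : ℕ} (hℓ : ℓ.Prime) (h3 : 3 ≤ ℓ) (hs : ¬ ℓ ∣ s) (hf : ¬ ℓ ∣ f)
    (hd : ℓ ∣ spA s N f) : ∃ i < N, ℓ ∣ s ^ (2 * (i + 1)) - 1 := by
  unfold spA at hd
  rcases (Nat.Prime.dvd_mul hℓ).1 hd with h1 | h1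
  · rcases (Nat.Prime.dvd_mul hℓ).1 h1 with h2 | h2
    · have := Nat.le_of_dvd (by norm_num) h2
      omega
    · exact absurd h2 hf
  · rcases (Nat.Prime.dvd_mul hℓ).1 h1 with h2 | h2
    · exact absurd (hℓ.dvd_of_dvd_pow h2) hs
    · obtain ⟨i, hi, hid⟩ := (Prime.dvd_finset_prod_iff hℓ.prime _).1 h2
      exact ⟨i, mem_range.1 hi, hid⟩

theorem not_sq_dvd {s N f ℓ j : ℕ} (hs2 : 2 ≤ s) (hℓ : ℓ.Prime) (h3 : 3 ≤ ℓ) (hs : ¬ ℓ ∣ s) (hf : ¬ ℓ ∣ f)
    (hj : j < N) (hne : ∀ i < N, i ≠ j → ¬ ℓ ∣ s ^ (2 * (i + 1)) - 1) (hlt : s ^ (j + 1) + 1 < ℓ ^ 2) :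
    ¬ ℓ ^ 2 ∣ spA s N f := by
  intro hd
  unfold spA at hd
  have c2 : (ℓ ^ 2).Coprime 2 := Nat.Coprime.pow_left _ ((Nat.Prime.coprime_iff_not_dvd hℓ).2 fun h => by
    have := Nat.le_of_dvd (by norm_num) h
    omega)
  have cf : (ℓ ^ 2).Coprime f := Nat.Coprime.pow_left _ ((Nat.Prime.coprime_iff_not_dvd hℓ).2 hf)
  have cs : (ℓ ^ 2).Coprime (s ^ (N ^ 2)) :=
    Nat.Coprime.pow_left _ (Nat.Coprime.pow_right _ ((Nat.Prime.coprime_iff_not_dvd hℓ).2 hs))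
  have h1 := cs.dvd_of_dvd_mul_left ((Nat.Coprime.mul_right c2 cf).dvd_of_dvd_mul_left hd)
  rw [← Finset.prod_erase_mul _ _ (mem_range.2 hj)] at h1
  have ce : (ℓ ^ 2).Coprime (∏ i ∈ (range N).erase j, (s ^ (2 * (i + 1)) - 1)) := by
    refine Nat.Coprime.prod_right fun i hi => ?_
    rw [mem_erase, mem_range] at hi
    exact Nat.Coprime.pow_left _ ((Nat.Prime.coprime_iff_not_dvd hℓ).2 (hne i hi.2 hi.1))
  have h2 := ce.dvd_of_dvd_mul_left h1
  rw [sq_sub_one] at h2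
  have hpos : 2 ≤ s ^ (j + 1) := by
    calc 2 = 2 ^ 1 := rfl
      _ ≤ s ^ 1 := Nat.pow_le_pow_left hs2 1
      _ ≤ s ^ (j + 1) := Nat.pow_le_pow_right (by omega) (by omega)
  by_cases h4 : ℓ ∣ s ^ (j + 1) + 1
  · have h5 : (ℓ ^ 2).Coprime (s ^ (j + 1) - 1) := by
      refine Nat.Coprime.pow_left _ ((Nat.Prime.coprime_iff_not_dvd hℓ).2 fun h => ?_)
      have h6 := Nat.dvd_sub h4 h
      have h7 : s ^ (j + 1) + 1 - (s ^ (j + 1) - 1) = 2 := by omega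
      rw [h7] at h6
      have := Nat.le_of_dvd (by norm_num) h6
      omega
    have h6 := Nat.le_of_dvd (by omega) (h5.dvd_of_dvd_mul_left h2)
    omega
  · have h5 : (ℓ ^ 2).Coprime (s ^ (j + 1) + 1) := Nat.Coprime.pow_left _ ((Nat.Prime.coprime_iff_not_dvd hℓ).2 h4)
    have h6 := Nat.le_of_dvd (by omega) (h5.dvd_of_dvd_mul_right h2)
    omega

theorem dvd_half {ℓ x : ℕ} (hℓ : ℓ.Prime) (h3 : 3 ≤ ℓ) (hx : Even x) (hd : ℓ ∣ x) : ℓ ∣ x / 2 := by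
  obtain ⟨y, rfl⟩ := hx
  rw [← two_mul] at hd ⊢
  rw [Nat.mul_div_cancel_left y (by norm_num)]
  rcases (Nat.Prime.dvd_mul hℓ).1 hd with h | h
  · have := Nat.le_of_dvd (by norm_num) h
    omega
  · exact h

theorem cases_odd {s N k ℓ i : ℕ} (hodd : Odd s) (h3 : 3 ≤ s) (hk : s ^ N + 1 ≤ 4 * k) (hk6 : 6 ≤ k)
    (hℓ : ℓ.Prime) (hkℓ : k ∣ ℓ - 1) (hle : k + 1 ≤ ℓ) (hi : i < N) (hd : ℓ ∣ s ^ (2 * (i + 1)) - 1) :
    i + 1 = N ∧ ℓ = k + 1 := by
  rw [sq_sub_one] at hd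
  have hpos : 3 ≤ s ^ (i + 1) := by
    calc 3 = 3 ^ 1 := rfl
      _ ≤ s ^ 1 := Nat.pow_le_pow_left h3 1
      _ ≤ s ^ (i + 1) := Nat.pow_le_pow_right (by omega) (by omega)
  have ho : Odd (s ^ (i + 1)) := hodd.pow
  obtain ⟨y, hy⟩ := ho
  -- `ℓ` divides `(s^(i+1) ± 1)/2`
  obtain ⟨M, hM, hM0, hM2⟩ : ∃ M, ℓ ∣ M ∧ 0 < M ∧ 2 * M ≤ s ^ (i + 1) + 1 := by
    rcases (Nat.Prime.dvd_mul hℓ).1 hd with h | h
    · refine ⟨_, dvd_half hℓ (by omega) ⟨y, by omega⟩ h, by omega, by omega⟩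
    · refine ⟨_, dvd_half hℓ (by omega) ⟨y + 1, by omega⟩ h, by omega, by omega⟩
  have hlM := Nat.le_of_dvd hM0 hM
  have hiN : i + 1 = N := by
    by_contra hne
    have h1 : s ^ (i + 1) * 3 ≤ s ^ N := by
      calc s ^ (i + 1) * 3 ≤ s ^ (i + 1) * s := Nat.mul_le_mul_left _ h3
        _ = s ^ (i + 2) := by rw [pow_succ s (i + 1)]
        _ ≤ s ^ N := Nat.pow_le_pow_right (by omega) (by omega)
    omega
  refine ⟨hiN, ?_⟩
  rw [hiN] at hM2
  obtain ⟨c, hc⟩ := hM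
  have hc1 : c = 1 := by
    have h1 : c < 2 := by
      by_contra h2
      have h4 : ℓ * 2 ≤ ℓ * c := Nat.mul_le_mul_left _ (by omega)
      omega
    have h2 : c ≠ 0 := by rintro rfl; omega
    omega
  rw [hc1, mul_one] at hc
  obtain ⟨d, hd'⟩ := hkℓ
  have hd1 : d = 1 := by
    have h1 : d < 2 := by
      by_contra h2
      have h4 : k * 2 ≤ k * d := Nat.mul_le_mul_left _ (by omega)
      omega
    have h2 : d ≠ 0 := by rintro rfl; omega
    omega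
  rw [hd1, mul_one] at hd'
  omega

theorem cases_even {s N k ℓ i : ℕ} (h2 : 2 ≤ s) (hk : s ^ N ≤ 2 * k) (hk6 : 6 ≤ k)
    (hℓ : ℓ.Prime) (hkℓ : k ∣ ℓ - 1) (hle : k + 1 ≤ ℓ) (hi : i < N) (hd : ℓ ∣ s ^ (2 * (i + 1)) - 1) :
    (i + 2 = N ∧ s = 2 ∧ ℓ = s ^ (i + 1) + 1 ∧ ℓ = k + 1) ∨
    (i + 1 = N ∧ (ℓ = s ^ N + 1 ∨ ℓ = s ^ N - 1) ∧ (ℓ = k + 1 ∨ (ℓ = 2 * k + 1 ∧ s ^ N = 2 * k))) := by
  rw [sq_sub_one] at hd
  have hpos : 2 ≤ s ^ (i + 1) := by
    calc 2 = 2 ^ 1 := rfl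
      _ ≤ s ^ 1 := Nat.pow_le_pow_left h2 1
      _ ≤ s ^ (i + 1) := Nat.pow_le_pow_right (by omega) (by omega)
  obtain ⟨M, hM, hM'⟩ : ∃ M, ℓ ∣ M ∧ (M = s ^ (i + 1) + 1 ∨ M = s ^ (i + 1) - 1) := by
    rcases (Nat.Prime.dvd_mul hℓ).1 hd with h | h
    · exact ⟨_, h, Or.inr rfl⟩
    · exact ⟨_, h, Or.inl rfl⟩
  have hM0 : 0 < M := by omega
  have hlM := Nat.le_of_dvd hM0 hM
  have hiN' : s ^ (i + 1) ≤ s ^ N := Nat.pow_le_pow_right (by omega) (by omega)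
  have hML : M = ℓ := by
    obtain ⟨c, hc⟩ := hM
    have h1 : c < 2 := by
      by_contra h2
      have h4 : ℓ * 2 ≤ ℓ * c := Nat.mul_le_mul_left _ (by omega)
      omega
    have h2 : c ≠ 0 := by rintro rfl; omega
    have h3 : c = 1 := by omega
    rw [h3, mul_one] at hc
    exact hc
  have hkk : ℓ = k + 1 ∨ ℓ = 2 * k + 1 := by
    obtain ⟨d, hd'⟩ := hkℓ
    have h1 : d < 3 := by
      by_contra h2
      have h4 : k * 3 ≤ k * d := Nat.mul_le_mul_left _ (by omega)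
      omega
    have h2 : d ≠ 0 := by rintro rfl; omega
    rcases (show d = 1 ∨ d = 2 by omega) with h3 | h3
    · rw [h3] at hd'; omega
    · rw [h3] at hd'; omega
  by_cases hiN : i + 1 = N
  · right
    rw [hiN] at hM'
    refine ⟨hiN, by omega, ?_⟩
    rcases hkk with h3 | h3
    · exact Or.inl h3
    · right
      refine ⟨h3, ?_⟩
      omega
  · left
    have h3 : s ^ (i + 2) ≤ s ^ N := Nat.pow_le_pow_right (by omega) (by omega)
    have h4 : s ^ (i + 2) = s ^ (i + 1) * s := pow_succ _ _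
    have h5 : s ^ (i + 1) * 2 ≤ s ^ (i + 1) * s := Nat.mul_le_mul_left _ h2
    have h6 : ℓ = s ^ (i + 1) + 1 := by omega
    have h7 : s ^ (i + 1) = k := by omega
    have hs2 : s = 2 := by
      by_contra hne
      have h8 : s ^ (i + 1) * 3 ≤ s ^ (i + 1) * s := Nat.mul_le_mul_left _ (by omega)
      omega
    refine ⟨?_, hs2, h6, by omega⟩
    by_contra hne
    have h8 : s ^ (i + 3) ≤ s ^ N := Nat.pow_le_pow_right (by omega) (by omega)
    have h9 : s ^ (i + 3) = s ^ (i + 2) * s := pow_succ _ _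
    have h10 : s ^ (i + 2) * 2 ≤ s ^ (i + 2) * s := Nat.mul_le_mul_left _ h2
    omega

/-- the numeric part, `s` odd -/
theorem kill_odd {s N k f : ℕ} (hodd : Odd s) (h3 : 3 ≤ s) (hN : 2 ≤ N) (hk : s ^ N + 1 ≤ 4 * k) (hk6 : 6 ≤ k)
    (hf0 : 0 < f) (hf : f < s) {ℓ : ℕ} (hℓ : ℓ.Prime) (hd : ℓ ∣ spA s N f) (hkℓ : k ∣ ℓ - 1) (hle : k + 1 ≤ ℓ) :
    ℓ ≤ 2 * k + 1 ∧ (∀ r, r.Prime → r ∣ spA s N f → k ∣ r - 1 → k + 1 ≤ r → r = ℓ) ∧ ¬ ℓ ^ 2 ∣ spA s N f := by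
  have hsk : s ≤ k := by
    by_contra hcon
    have h1 : s ^ 2 ≤ s ^ N := Nat.pow_le_pow_right (by omega) hN
    have h4 : s * 7 ≤ s * s := Nat.mul_le_mul_left _ (by omega)
    rw [pow_two] at h1
    omega
  have key : ∀ r, r.Prime → r ∣ spA s N f → k ∣ r - 1 → k + 1 ≤ r → r = k + 1 := by
    intro r hr hd hkr hle
    obtain ⟨i, hi, hid⟩ := exists_factor hr (by omega) (fun h => by
      have := Nat.le_of_dvd (by omega) h
      omega) (fun h => by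
      have := Nat.le_of_dvd (by omega) h
      omega) hd
    exact (cases_odd hodd h3 hk hk6 hr hkr hle hi hid).2
  have hl := key ℓ hℓ hd hkℓ hle
  refine ⟨by omega, fun r hr hrd hkr hler => by rw [key r hr hrd hkr hler, hl], ?_⟩
  refine not_sq_dvd (j := N - 1) (by omega) hℓ (by omega) (fun h => by
      have := Nat.le_of_dvd (by omega) h
      omega) (fun h => by
      have := Nat.le_of_dvd (by omega) h
      omega) (by omega) ?_ ?_
  · intro i hi hne hid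
    have := (cases_odd hodd h3 hk hk6 hℓ hkℓ hle hi hid).1
    omega
  · rw [show N - 1 + 1 = N by omega, pow_two]
    have h4 : 7 * ℓ ≤ ℓ * ℓ := Nat.mul_le_mul_right _ (by omega)
    omega

/-- the numeric part, `s` even -/
theorem kill_even {s N k f g : ℕ} (hs : s = 2 ^ g) (h2 : 2 ≤ s) (hN : 2 ≤ N) (h3 : N = 2 → 3 ≤ s)
    (hk : s ^ N ≤ 2 * k) (hk6 : 6 ≤ k)
    (hf0 : 0 < f) (hf : f < s) {ℓ : ℕ} (hℓ : ℓ.Prime) (hd : ℓ ∣ spA s N f) (hkℓ : k ∣ ℓ - 1) (hle : k + 1 ≤ ℓ) :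
    ℓ ≤ 2 * k + 1 ∧ (∀ r, r.Prime → r ∣ spA s N f → k ∣ r - 1 → k + 1 ≤ r → r = ℓ) ∧ ¬ ℓ ^ 2 ∣ spA s N f := by
  have hsk : s ≤ k := by
    by_contra hcon
    have h1 : s ^ 2 ≤ s ^ N := Nat.pow_le_pow_right (by omega) hN
    have h4 : s * 7 ≤ s * s := Nat.mul_le_mul_left _ (by omega)
    rw [pow_two] at h1
    omega
  have key : ∀ r, r.Prime → r ∣ spA s N f → k ∣ r - 1 → k + 1 ≤ r → ∃ i < N, r ∣ s ^ (2 * (i + 1)) - 1 := by
    intro r hr hd hkr hle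
    exact exists_factor hr (by omega) (fun h => by
      have := Nat.le_of_dvd (by omega) h
      omega) (fun h => by
      have := Nat.le_of_dvd (by omega) h
      omega) hd
  have key2 : ∀ r, r.Prime → r ∣ spA s N f → k ∣ r - 1 → k + 1 ≤ r → r = k + 1 ∨ (r = 2 * k + 1 ∧ s ^ N = 2 * k) := by
    intro r hr hd hkr hle
    obtain ⟨i, hi, hid⟩ := key r hr hd hkr hle
    rcases cases_even h2 hk hk6 hr hkr hle hi hid with h | h
    · exact Or.inl h.2.2.2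
    · exact h.2.2
  have h3k : s ^ N = 2 * k → ¬ 3 ∣ k := by
    intro h h3
    have h4 : 3 ∣ s ^ N := h ▸ h3.mul_left 2
    have h5 := Nat.prime_three.dvd_of_dvd_pow h4
    rw [hs] at h5
    have h6 := Nat.prime_three.dvd_of_dvd_pow h5
    exact absurd (Nat.le_of_dvd (by norm_num) h6) (by norm_num)
  -- `k + 1` and `2 k + 1` are not both prime
  have hnot : s ^ N = 2 * k → (k + 1).Prime → (2 * k + 1).Prime → False := by
    intro h h1 h4
    have h5 := h3k h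
    have h7 : 3 ∣ k + 1 ∨ 3 ∣ 2 * k + 1 := by
      rcases (show k % 3 = 1 ∨ k % 3 = 2 by omega) with h8 | h8
      · right; omega
      · left; omega
    rcases h7 with h6 | h6
    · have := (Nat.prime_dvd_prime_iff_eq Nat.prime_three h1).1 h6
      omega
    · have := (Nat.prime_dvd_prime_iff_eq Nat.prime_three h4).1 h6
      omega
  refine ⟨?_, ?_, ?_⟩
  · rcases key2 ℓ hℓ hd hkℓ hle with h | h <;> omega
  · intro r hr hrd hkr hler
    rcases key2 ℓ hℓ hd hkℓ hle with h | ⟨h, h'⟩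
    · rcases key2 r hr hrd hkr hler with h1 | ⟨h1, h1'⟩
      · rw [h1, h]
      · exact (hnot h1' (h ▸ hℓ) (h1 ▸ hr)).elim
    · rcases key2 r hr hrd hkr hler with h1 | ⟨h1, h1'⟩
      · exact (hnot h' (h1 ▸ hr) (h ▸ hℓ)).elim
      · rw [h1, h]
  · obtain ⟨j, hj, hjd⟩ := key ℓ hℓ hd hkℓ hle
    have cj := cases_even h2 hk hk6 hℓ hkℓ hle hj hjd
    have hjN : s ^ (j + 1) ≤ s ^ N := Nat.pow_le_pow_right (by omega) (by omega)
    refine not_sq_dvd (j := j) h2 hℓ (by omega) (fun h => by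
      have := Nat.le_of_dvd (by omega) h
      omega) (fun h => by
      have := Nat.le_of_dvd (by omega) h
      omega) hj ?_ ?_
    · -- the two possible factors exclude each other
      have hexcl : ∀ a b, a + 2 = N → b + 1 = N → s = 2 → ℓ = s ^ (a + 1) + 1 → (ℓ = s ^ N + 1 ∨ ℓ = s ^ N - 1) →
          False := by
        intro a b ha hb hs2 h4 h5
        have h6 : s ^ N = s ^ (a + 1) * s := by rw [← ha, pow_succ]
        have h7 : s ^ (a + 1) * s = s ^ (a + 1) * 2 := by rw [hs2]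
        omega
      intro i hi hne hid
      have ci := cases_even h2 hk hk6 hℓ hkℓ hle hi hid
      rcases ci with ⟨a1, a2, a3, a4⟩ | ⟨a1, a2, a3⟩
      · rcases cj with ⟨b1, b2, b3, b4⟩ | ⟨b1, b2, b3⟩
        · omega
        · exact hexcl i j a1 b1 a2 a3 b2
      · rcases cj with ⟨b1, b2, b3, b4⟩ | ⟨b1, b2, b3⟩
        · exact hexcl j i b1 a1 b2 b3 a2
        · omega
    · have h4 : 7 * ℓ ≤ ℓ * ℓ := Nat.mul_le_mul_right _ (by omega)
      rw [pow_two]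
      omega

/-! ### The group -/

theorem card_aut_psp_dvd {r f N : ℕ} [Fact r.Prime] {K : Type v} [Field K] [Fintype K]
    (hf : 1 ≤ f) (hK : Fintype.card K = r ^ f) (hN : 2 ≤ N) (h3 : N = 2 → 3 ≤ Fintype.card K) :
    Nat.card (MulAut (Cfsg.PSp N K)) ∣ spA (Fintype.card K) N f := by
  rw [Cfsg.Agent.S0814.result (F := K) r f hf hK N hN (by rwa [hK] at h3)]
  have h1 := Cfsg.Agent.S0245.result (F := K) rfl N
  have h2 := Cfsg.Agent.S0246.result (F := K) rfl N (by omega)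
  have h4 := Subgroup.card_eq_card_quotient_mul_card_subgroup (Subgroup.center (symplecticGroup (Fin N) K))
  rw [h1, h2] at h4
  have h5 : Nat.gcd 2 (r ^ f - 1) * Nat.card (Cfsg.PSp N K) =
      Fintype.card K ^ (N ^ 2) * ∏ i ∈ range N, (Fintype.card K ^ (2 * (i + 1)) - 1) := by
    rw [h4, hK, mul_comm]
  unfold spA
  rw [← h5]
  have h6 : (if N = 2 ∧ r = 2 then 2 else 1) ∣ 2 := by
    split_ifs
    · exact dvd_rfl
    · exact one_dvd _
  generalize (if N = 2 ∧ r = 2 then 2 else 1) = I at h6 ⊢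
  generalize Nat.gcd 2 (r ^ f - 1) = G
  generalize Nat.card (Cfsg.PSp N K) = X
  obtain ⟨c, hc⟩ := h6
  refine ⟨c, ?_⟩
  rw [hc]
  ring

variable {n : ℕ} {F : Type u} [Field F] [Finite F] {k m : ℕ} {P : Subgroup (GL (Fin n) F)}

/-- **PPD-B-psp.** -/
theorem row_psp (h : Row k m P) {r : ℕ} (hr : r.Prime) (hrF : (r : F) ≠ 0) {K : Type} [Field K] [Fintype K]
    [CharP K r] {N : ℕ} (hN : 2 ≤ N) (h3 : N = 2 → 3 ≤ Fintype.card K) (e : Soc P ≃* Cfsg.PSp N K) : False := by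
  have : Fact r.Prime := ⟨hr⟩
  obtain ⟨f', hf', hK⟩ := FiniteField.card K r
  obtain ⟨f, hf, hff⟩ : ∃ f : ℕ, 1 ≤ f ∧ (f' : ℕ) = f := ⟨f', f'.pos, rfl⟩
  rw [hff] at hK
  have hA := card_aut_psp_dvd hf hK hN h3
  have hfs : f < Fintype.card K := by
    rw [hK]
    exact Nat.lt_pow_self hr.one_lt
  have hs2 : 2 ≤ Fintype.card K := Fintype.one_lt_card
  have h6 := h.num.six_le
  by_cases hexc : N = 3 ∧ Fintype.card K = 2
  · obtain ⟨rfl, h2⟩ := hexc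
    have hf1 : f = 1 := by omega
    rw [h2, hf1] at hA
    have hval : spA 2 3 1 = 2903040 := by decide
    rw [hval] at hA
    refine h.kill e hA (r₀ := 7) (by omega) ?_ (by norm_num)
    intro r' hr' hd _ hle
    have h7 : r' ∣ 2 ^ 10 * 3 ^ 4 * 5 * 7 := by norm_num; exact hd
    rcases (Nat.Prime.dvd_mul hr').1 h7 with h7 | h7
    · exfalso
      rcases (Nat.Prime.dvd_mul hr').1 h7 with h7 | h7
      · rcases (Nat.Prime.dvd_mul hr').1 h7 with h7 | h7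
        · have := Nat.le_of_dvd (by norm_num) (hr'.dvd_of_dvd_pow h7)
          omega
        · have := Nat.le_of_dvd (by norm_num) (hr'.dvd_of_dvd_pow h7)
          omega
      · have := Nat.le_of_dvd (by norm_num) h7
        omega
    · exact (Nat.prime_dvd_prime_iff_eq hr' (by norm_num)).1 h7
  · have hno : H912.Bd.NoR.{u} r (Cfsg.PSp N K) :=
      H912.Bd.NoR.of_cyclic (S2092.result (F := K) rfl N hN h3 hexc)
        (H912.Bd.coprime_gcd_sub hr Fintype.card_pos (H912.Bd.char_dvd_card K))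
    have hpr := H912.Bd.PR.of_noR hno P h.core.perfect e
    obtain ⟨r₀, hr₀, hrm⟩ := h.num.exists_prime
    have hnlt := h.num.nlt
    rcases hr.eq_two_or_odd' with h2 | hodd
    · subst h2
      have hle : Fintype.card K ^ N - 1 ≤ n :=
        H175.BdSp.bd_psp_even (F := F) (K := K) rfl (by omega) (by exact_mod_cast hrF) (MulEquiv.refl _) n hpr
      have hk : Fintype.card K ^ N ≤ 2 * k := by omega
      obtain ⟨h1, h2, h4⟩ := kill_even hK hs2 hN h3 hk h6 (by omega) hfs hr₀ ((hrm.trans (h.dvd_card e)).trans hA)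
        (h.num.dvd_sub_one hr₀ hrm) (h.num.succ_le hr₀ hrm)
      exact h.kill e hA h1 h2 h4
    · have hle : (Fintype.card K ^ N - 1) / 2 ≤ n :=
        H175.BdSp.bd_psp (F := F) (K := K) hr rfl (by omega) hrF (MulEquiv.refl _) n hpr
      have ho : Odd (Fintype.card K) := by rw [hK]; exact hodd.pow
      have ho' : Odd (Fintype.card K ^ N) := ho.pow
      obtain ⟨y, hy⟩ := ho'
      have hk : Fintype.card K ^ N + 1 ≤ 4 * k := by omega
      have hs3 : 3 ≤ Fintype.card K := by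
        obtain ⟨z, hz⟩ := ho
        omega
      obtain ⟨h1, h2, h4⟩ := kill_odd ho hs3 hN hk h6 (by omega) hfs hr₀ ((hrm.trans (h.dvd_card e)).trans hA)
        (h.num.dvd_sub_one hr₀ hrm) (h.num.succ_le hr₀ hrm)
      exact h.kill e hA h1 h2 h4

end Cfsg.Agent.H38.Ppd
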