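import Cfsg.Agent.H940.EngLoc
import Cfsg.Agent.SporadicA.PermTab

/-!
# Orbit patterns and maximal subgroups (helper38)

`θ : L →* Perm (Fin n)`. `Pat θ H c` : points with the same color `c` are in one orbit of `H`; then the orbits of an
overgroup `K` of `H` are unions of color classes (`Pat.union`, `Pat.card`), which gives criteria for maximality
(`coatom_of`) and for transitivity.
-/

set_option autoImplicit false

namespace Cfsg.Agent.H38.OrbKit

open Subgroup Equiv Cfsg.Agent.SporadicA.PermTab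

universe u

variable {L : Type u} [Group L] {n : ℕ}

/-- the stabilizer of a point -/
def st (θ : L →* Perm (Fin n)) (i : Fin n) : Subgroup L where
  carrier := {g | θ g i = i}
  mul_mem' := by
    intro a b ha hb
    change θ (a * b) i = i
    rw [map_mul, Perm.mul_apply, show θ b i = i from hb, show θ a i = i from ha]
  one_mem' := by
    change θ 1 i = i
    rw [map_one, Perm.one_apply]
  inv_mem' := by
    intro a ha
    change θ a⁻¹ i = i
    rw [map_inv, Perm.inv_eq_iff_eq]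
    exact (show θ a i = i from ha).symm

/-- the stabilizer of an unordered pair of points -/
def pst (θ : L →* Perm (Fin n)) (i j : Fin n) : Subgroup L where
  carrier := {g | (θ g i = i ∧ θ g j = j) ∨ (θ g i = j ∧ θ g j = i)}
  mul_mem' := by
    intro a b ha hb
    change (θ (a * b) i = i ∧ θ (a * b) j = j) ∨ (θ (a * b) i = j ∧ θ (a * b) j = i)
    rw [map_mul, Perm.mul_apply, Perm.mul_apply]
    rcases hb with ⟨h1, h2⟩ | ⟨h1, h2⟩ <;> rcases ha with ⟨h3, h4⟩ | ⟨h3, h4⟩ <;> rw [h1, h2]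
    · exact Or.inl ⟨h3, h4⟩
    · exact Or.inr ⟨h3, h4⟩
    · exact Or.inr ⟨h4, h3⟩
    · exact Or.inl ⟨h4, h3⟩
  one_mem' := by
    change (θ 1 i = i ∧ θ 1 j = j) ∨ (θ 1 i = j ∧ θ 1 j = i)
    rw [map_one]
    exact Or.inl ⟨rfl, rfl⟩
  inv_mem' := by
    intro a ha
    change (θ a⁻¹ i = i ∧ θ a⁻¹ j = j) ∨ (θ a⁻¹ i = j ∧ θ a⁻¹ j = i)
    rw [map_inv]
    rcases ha with ⟨h1, h2⟩ | ⟨h1, h2⟩
    · exact Or.inl ⟨Perm.inv_eq_iff_eq.2 h1.symm, Perm.inv_eq_iff_eq.2 h2.symm⟩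
    · exact Or.inr ⟨Perm.inv_eq_iff_eq.2 h2.symm, Perm.inv_eq_iff_eq.2 h1.symm⟩

variable {θ : L →* Perm (Fin n)}

theorem mem_st {i : Fin n} {g : L} : g ∈ st θ i ↔ θ g i = i := Iff.rfl

theorem mem_pst {i j : Fin n} {g : L} : g ∈ pst θ i j ↔ (θ g i = i ∧ θ g j = j) ∨ (θ g i = j ∧ θ g j = i) := Iff.rfl

theorem pst_inf_st {i j : Fin n} (hij : i ≠ j) : pst θ i j ⊓ st θ i = st θ i ⊓ st θ j := by
  ext g
  rw [mem_inf, mem_inf, mem_pst, mem_st, mem_st]
  constructor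
  · rintro ⟨⟨h1, h2⟩ | ⟨h1, h2⟩, h3⟩
    · exact ⟨h1, h2⟩
    · exact absurd (h3.symm.trans h1) hij
  · rintro ⟨h1, h2⟩
    exact ⟨Or.inl ⟨h1, h2⟩, h1⟩

/-- the orbit of a point -/
noncomputable def orb (θ : L →* Perm (Fin n)) (K : Subgroup L) (i : Fin n) : Finset (Fin n) := by
  classical exact Finset.univ.filter fun j => ∃ g ∈ K, θ g i = j

theorem mem_orb {K : Subgroup L} {i j : Fin n} : j ∈ orb θ K i ↔ ∃ g ∈ K, θ g i = j := by
  unfold orb
  simp

/-- the theorem of Lagrange for an orbit -/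
theorem card_eq (K : Subgroup L) (i : Fin n) :
    Nat.card K = (orb θ K i).card * Nat.card ↥(K ⊓ st θ i) := by
  letI : MulAction K (Fin n) := MulAction.compHom (Fin n) (θ.comp K.subtype)
  have h0 : ∀ (g : K) (j : Fin n), g • j = θ g j := fun g j => rfl
  have h1 : Nat.card (MulAction.stabilizer K i) = Nat.card ↥(K ⊓ st θ i) := by
    refine Nat.card_congr ?_
    exact
      { toFun := fun g => ⟨g.1.1, g.1.2, g.2⟩
        invFun := fun g => ⟨⟨g.1, g.2.1⟩, g.2.2⟩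
        left_inv := fun g => rfl
        right_inv := fun g => rfl }
  have h2 : (MulAction.orbit K i).ncard = (orb θ K i).card := by
    rw [← Set.ncard_coe_finset]
    congr 1
    ext j
    rw [Finset.mem_coe, mem_orb]
    constructor
    · rintro ⟨g, rfl⟩
      exact ⟨g, g.2, rfl⟩
    · rintro ⟨g, hg, rfl⟩
      exact ⟨⟨g, hg⟩, rfl⟩
  rw [← h1, ← h2, ← Nat.card_coe_set_eq, Nat.card_congr (MulAction.orbitEquivQuotientStabilizer K i),
    ← Subgroup.index_eq_card, mul_comm, Subgroup.card_mul_index]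

theorem self_mem_orb (K : Subgroup L) (i : Fin n) : i ∈ orb θ K i :=
  mem_orb.2 ⟨1, K.one_mem, by rw [map_one, Perm.one_apply]⟩

theorem apply_mem_orb {K : Subgroup L} {i j : Fin n} {g : L} (hg : g ∈ K) (h : j ∈ orb θ K i) :
    θ g j ∈ orb θ K i := by
  obtain ⟨k, hk, rfl⟩ := mem_orb.1 h
  exact mem_orb.2 ⟨g * k, K.mul_mem hg hk, by rw [map_mul, Perm.mul_apply]⟩

/-- the points with the same color are conjugate under `H` -/
def Pat (θ : L →* Perm (Fin n)) (H : Subgroup L) {k : ℕ} (c : Fin n → Fin k) : Prop :=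
  ∀ i j, c i = c j → ∃ g ∈ H, θ g i = j

variable {H K : Subgroup L} {k : ℕ} {c : Fin n → Fin k}

theorem Pat.mono (P : Pat θ H c) (h : H ≤ K) : Pat θ K c := fun i j hij => by
  obtain ⟨g, hg, hgi⟩ := P i j hij
  exact ⟨g, h hg, hgi⟩

/-- orbits of an overgroup are unions of color classes -/
theorem Pat.union (P : Pat θ H c) (h : H ≤ K) (i : Fin n) :
    ∃ J : Finset (Fin k), c i ∈ J ∧ ∀ j, j ∈ orb θ K i ↔ c j ∈ J := by
  classical
  refine ⟨(orb θ K i).image c, Finset.mem_image_of_mem c (self_mem_orb K i), fun j => ⟨fun hj => Finset.mem_image_of_mem c hj, ?_⟩⟩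
  intro hj
  obtain ⟨j', hj', hc⟩ := Finset.mem_image.1 hj
  obtain ⟨g, hg, rfl⟩ := P j' j hc
  exact apply_mem_orb (h hg) hj'

theorem card_union {sz : Fin k → ℕ} (hsz : ∀ m, (Finset.univ.filter fun j => c j = m).card = sz m) {J : Finset (Fin k)}
    {O : Finset (Fin n)} (h : ∀ j, j ∈ O ↔ c j ∈ J) : O.card = ∑ m ∈ J, sz m := by
  classical
  rw [Finset.card_eq_sum_card_fiberwise (f := c) (t := J) (fun j hj => (h j).1 hj)]
  refine Finset.sum_congr rfl fun m hm => ?_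
  rw [← hsz m]
  congr 1
  ext j
  rw [Finset.mem_filter, Finset.mem_filter, h j]
  constructor
  · rintro ⟨-, h2⟩
    exact ⟨Finset.mem_univ _, h2⟩
  · rintro ⟨-, h2⟩
    exact ⟨by rw [h2]; exact hm, h2⟩

/-- the order of an overgroup -/
theorem Pat.card (P : Pat θ H c) (h : H ≤ K) {sz : Fin k → ℕ}
    (hsz : ∀ m, (Finset.univ.filter fun j => c j = m).card = sz m) (i : Fin n) :
    ∃ J : Finset (Fin k), c i ∈ J ∧ (∀ j, j ∈ orb θ K i ↔ c j ∈ J) ∧
      Nat.card K = (∑ m ∈ J, sz m) * Nat.card ↥(K ⊓ st θ i) := by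
  obtain ⟨J, h1, h2⟩ := P.union h i
  exact ⟨J, h1, h2, by rw [card_eq (θ := θ) K i, card_union hsz h2]⟩

/-- the order of `H` if the color is invariant -/
theorem Pat.card_exact (P : Pat θ H c) (hinv : ∀ h ∈ H, ∀ j, c (θ h j) = c j) {sz : Fin k → ℕ}
    (hsz : ∀ m, (Finset.univ.filter fun j => c j = m).card = sz m) (i : Fin n) :
    Nat.card H = sz (c i) * Nat.card ↥(H ⊓ st θ i) := by
  rw [card_eq (θ := θ) H i]
  congr 1
  rw [← hsz]
  congr 1
  ext j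
  rw [mem_orb, Finset.mem_filter]
  constructor
  · rintro ⟨g, hg, rfl⟩
    exact ⟨Finset.mem_univ _, hinv g hg i⟩
  · rintro ⟨-, hj⟩
    exact P i j hj.symm

/-- transitive subgroups -/
theorem card_of_trans {i₀ : Fin n} (h : ∀ j, ∃ g ∈ K, θ g i₀ = j) : Nat.card K = n * Nat.card ↥(K ⊓ st θ i₀) := by
  rw [card_eq (θ := θ) K i₀]
  congr 1
  have : orb θ K i₀ = Finset.univ := by
    ext j
    rw [mem_orb]
    exact ⟨fun _ => Finset.mem_univ _, fun _ => h j⟩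
  rw [this, Finset.card_univ, Fintype.card_fin]

/-- **criterion for maximality** -/
theorem coatom_of [Finite L] (P : Pat θ H c) {sz : Fin k → ℕ}
    (hsz : ∀ m, (Finset.univ.filter fun j => c j = m).card = sz m) (i : Fin n) {N a : ℕ} (hN : Nat.card L = N)
    (ha : a ∣ Nat.card ↥(H ⊓ st θ i)) (hne : H ≠ ⊤)
    (hfix : ∀ g : L, (∀ j, c j = c i → c (θ g j) = c i) → g ∈ H)
    (hnum : ∀ J : Finset (Fin k), c i ∈ J → (∑ m ∈ J, sz m) * a ∣ N → J = {c i} ∨ J = Finset.univ)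
    (htop : ∀ K : Subgroup L, H ≤ K → (∀ j, ∃ g ∈ K, θ g i = j) → K = ⊤) : IsCoatom H := by
  refine ⟨hne, fun K hK => ?_⟩
  obtain ⟨J, h1, h2, h3⟩ := P.card hK.le hsz i
  have h4 : a ∣ Nat.card ↥(K ⊓ st θ i) := ha.trans (card_dvd_of_le (inf_le_inf_right _ hK.le))
  have h5 : (∑ m ∈ J, sz m) * a ∣ N := by
    rw [← hN]
    refine dvd_trans ?_ (card_subgroup_dvd_card K)
    rw [h3]
    exact Nat.mul_dvd_mul_left _ h4
  rcases hnum J h1 h5 with h6 | h6
  · exfalso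
    apply hK.not_ge
    intro g hg
    apply hfix
    intro j hj
    have h7 : j ∈ orb θ K i := (h2 j).2 (by rw [hj]; exact h1)
    have h8 := (h2 _).1 (apply_mem_orb hg h7)
    rw [h6] at h8
    exact Finset.mem_singleton.1 h8
  · refine htop K hK.le fun j => ?_
    exact mem_orb.1 ((h2 j).2 (by rw [h6]; exact Finset.mem_univ _))

/-- criterion for maximality, with the orbit as a union of color classes -/
theorem coatom_of' [Finite L] (P : Pat θ H c) {sz : Fin k → ℕ}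
    (hsz : ∀ m, (Finset.univ.filter fun j => c j = m).card = sz m) (i : Fin n) {a : ℕ}
    (ha : a ∣ Nat.card ↥(H ⊓ st θ i)) (hne : H ≠ ⊤)
    (hfix : ∀ g : L, (∀ j, c j = c i → c (θ g j) = c i) → g ∈ H)
    (htop : ∀ K : Subgroup L, H ≤ K → ∀ J : Finset (Fin k), c i ∈ J → J ≠ {c i} → (∀ j, j ∈ orb θ K i ↔ c j ∈ J) →
      (∑ m ∈ J, sz m) * a ∣ Nat.card K → K = ⊤) : IsCoatom H := by
  refine ⟨hne, fun K hK => ?_⟩
  obtain ⟨J, h1, h2, h3⟩ := P.card hK.le hsz i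
  have h4 : a ∣ Nat.card ↥(K ⊓ st θ i) := ha.trans (card_dvd_of_le (inf_le_inf_right _ hK.le))
  refine htop K hK.le J h1 ?_ h2 (by rw [h3]; exact Nat.mul_dvd_mul_left _ h4)
  intro h6
  apply hK.not_ge
  intro g hg
  apply hfix
  intro j hj
  have h7 : j ∈ orb θ K i := (h2 j).2 (by rw [hj]; exact h1)
  have h8 := (h2 _).1 (apply_mem_orb hg h7)
  rw [h6] at h8
  exact Finset.mem_singleton.1 h8

/-- a transitive subgroup `K` with `K_x = L_x ∩ L_b` -/
theorem block_aux {R : ℕ → ℕ → ℕ} (hR : ∀ (g : L) (i j : Fin n), R (θ g i) (θ g j) = R i j) {x b y : Fin n}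
    (hxb : x ≠ b) (ht : ∀ j, ∃ g ∈ K, θ g x = j) (hK : K ⊓ st θ x = st θ x ⊓ st θ b)
    (hfx : ∀ v, (∀ g ∈ st θ x ⊓ st θ b ⊓ st θ y, θ g v = v) → v = x ∨ v = b ∨ v = y) :
    ∃ d, (d = x ∨ d = b) ∧ R (y : ℕ) (d : ℕ) = R (x : ℕ) (b : ℕ) ∧ K ⊓ st θ y ≤ st θ d := by
  obtain ⟨k, hk, hky⟩ := ht y
  have h1 : K ⊓ st θ y ≤ st θ (θ k b) := by
    rintro g ⟨hg, hgy⟩
    have hgy' : θ g y = y := hgy
    have h2 : k⁻¹ * g * k ∈ K ⊓ st θ x := by
      refine ⟨K.mul_mem (K.mul_mem (K.inv_mem hk) hg) hk, ?_⟩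
      change θ (k⁻¹ * g * k) x = x
      rw [map_mul, map_mul, map_inv, Perm.mul_apply, Perm.mul_apply, hky, hgy', Perm.inv_eq_iff_eq]
      exact hky.symm
    rw [hK] at h2
    have h3 : θ (k⁻¹ * g * k) b = b := h2.2
    rw [map_mul, map_mul, map_inv, Perm.mul_apply, Perm.mul_apply, Perm.inv_eq_iff_eq] at h3
    exact h3
  have h4 : θ k b = x ∨ θ k b = b ∨ θ k b = y := by
    apply hfx
    rintro g ⟨hg, hgy⟩
    refine h1 ⟨?_, hgy⟩
    rw [← hK] at hg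
    exact hg.1
  have h5 : R (y : ℕ) (θ k b : Fin n) = R (x : ℕ) (b : ℕ) := by
    rw [← hR k x b, hky]
  refine ⟨θ k b, ?_, h5, h1⟩
  rcases h4 with h | h | h
  · exact Or.inl h
  · exact Or.inr h
  · exact absurd ((θ k).injective (hky.trans h.symm)) hxb

/-- transitivity does not depend on the point -/
theorem trans_of {i j : Fin n} (h : ∀ v, ∃ g ∈ K, θ g i = v) : ∀ v, ∃ g ∈ K, θ g j = v := by
  intro v
  obtain ⟨g, hg, rfl⟩ := h j
  obtain ⟨g', hg', rfl⟩ := h v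
  refine ⟨g' * g⁻¹, K.mul_mem hg' (K.inv_mem hg), ?_⟩
  rw [map_mul, Perm.mul_apply, map_inv]
  congr 1
  exact Perm.inv_eq_iff_eq.2 rfl

/-- the elements preserving a coloring -/
def pcol (θ : L →* Perm (Fin n)) (c : Fin n → Fin k) : Subgroup L where
  carrier := {g | ∀ j, c (θ g j) = c j}
  mul_mem' := by
    intro a b ha hb j
    rw [map_mul, Perm.mul_apply, show c (θ a (θ b j)) = c (θ b j) from ha _, show c (θ b j) = c j from hb j]
  one_mem' := by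
    intro j
    rw [map_one, Perm.one_apply]
  inv_mem' := by
    intro a ha j
    have h1 : c (θ a (θ a⁻¹ j)) = c (θ a⁻¹ j) := ha _
    have h2 : θ a (θ a⁻¹ j) = j := by rw [← Perm.mul_apply, ← map_mul, mul_inv_cancel, map_one, Perm.one_apply]
    rw [← h1, h2]

/-- a maximal subgroup and a subgroup with large orbits -/
theorem apart_st {A : Subgroup L} {x : Fin n} (hA : IsCoatom (st θ x)) (P : Pat θ A c)
    (h : ∀ v : Fin n, ∃ w, c v = c w ∧ v ≠ w) : Cfsg.Agent.H940.MaxCls.Apart (st θ x) A := by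
  refine Cfsg.Agent.H940.MaxCls.apart_of_coatom hA fun g => ?_
  obtain ⟨w, hw, hne⟩ := h (θ g⁻¹ x)
  obtain ⟨a, ha, haw⟩ := P _ _ hw
  refine ⟨a, ha, fun h1 => hne ?_⟩
  have h2 : θ (g * a * g⁻¹) x = x := h1
  rw [map_mul, map_mul, Perm.mul_apply, Perm.mul_apply, haw] at h2
  rw [map_inv, Perm.inv_eq_iff_eq]
  exact h2.symm

/-- a maximal pair stabilizer and a subgroup with large orbits -/
theorem apart_pst {A : Subgroup L} {x y : Fin n} (hA : IsCoatom (pst θ x y)) (P : Pat θ A c)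
    (h : ∀ v u : Fin n, ∃ w, c v = c w ∧ w ≠ v ∧ w ≠ u) : Cfsg.Agent.H940.MaxCls.Apart (pst θ x y) A := by
  refine Cfsg.Agent.H940.MaxCls.apart_of_coatom hA fun g => ?_
  obtain ⟨w, hw, hne, hne'⟩ := h (θ g⁻¹ x) (θ g⁻¹ y)
  obtain ⟨a, ha, haw⟩ := P _ _ hw
  refine ⟨a, ha, fun h1 => ?_⟩
  have h2 : θ (g * a * g⁻¹) x = x ∨ θ (g * a * g⁻¹) x = y := by
    rcases mem_pst.1 h1 with h | h
    · exact Or.inl h.1
    · exact Or.inr h.1
  rw [map_mul, map_mul, Perm.mul_apply, Perm.mul_apply, haw] at h2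
  rcases h2 with h2 | h2
  · apply hne
    rw [map_inv, eq_comm, Perm.inv_eq_iff_eq]
    exact h2.symm
  · apply hne'
    rw [map_inv, eq_comm, Perm.inv_eq_iff_eq]
    exact h2.symm

/-! ### tables -/

theorem inMap {P : ℕ} (h : InG θ.range P)
    (hH : ∀ l : L, (∀ i : Fin n, ((θ l i : Fin n) : ℕ) = lk P i) → l ∈ H) : InG (H.map θ) P := by
  obtain ⟨_, ⟨l, rfl⟩, hg⟩ := h
  exact ⟨θ l, ⟨l, hH l hg, rfl⟩, hg⟩

theorem inMap_st {P : ℕ} (h : InG θ.range P) {i : Fin n} (hi : lk P i = i) : InG ((st θ i).map θ) P :=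
  inMap h fun l hl => mem_st.2 (Fin.ext (by rw [hl, hi]))

theorem inMap_pst {P : ℕ} (h : InG θ.range P) {i j : Fin n}
    (hi : (lk P i = i ∧ lk P j = j) ∨ (lk P i = j ∧ lk P j = i)) : InG ((pst θ i j).map θ) P :=
  inMap h fun l hl => mem_pst.2 (by
    rcases hi with ⟨h1, h2⟩ | ⟨h1, h2⟩
    · exact Or.inl ⟨Fin.ext (by rw [hl, h1]), Fin.ext (by rw [hl, h2])⟩
    · exact Or.inr ⟨Fin.ext (by rw [hl, h1]), Fin.ext (by rw [hl, h2])⟩)

theorem inMap_inf {P : ℕ} (h1 : InG (H.map θ) P) (h2 : InG (K.map θ) P) (hθ : Function.Injective θ) :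
    InG ((H ⊓ K).map θ) P := by
  obtain ⟨_, ⟨l, hl, rfl⟩, hg⟩ := h1
  obtain ⟨_, ⟨l', hl', rfl⟩, hg'⟩ := h2
  have : l = l' := by
    apply hθ
    ext i
    rw [hg, hg']
  subst this
  exact ⟨θ l, ⟨l, ⟨hl, hl'⟩, rfl⟩, hg⟩

theorem inMap_pcol {P : ℕ} (h : InG θ.range P) (hc : ∀ j v : Fin n, (v : ℕ) = lk P j → c v = c j) :
    InG ((pcol θ c).map θ) P :=
  inMap h fun _ hl j => hc j _ (hl j)

/-- pattern from orbit certificates -/
theorem pat_of_chk {P0 : ℕ} {T : List ℕ} (h0 : InG (H.map θ) P0) (hT : ∀ P ∈ T, InG (H.map θ) P) (rep : Fin k → Fin n)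
    (C : Fin k → ℕ) (hchk : ∀ m, chkOrb n (rep m) P0 T (C m) = true) (hcov : ∀ v : Fin n, lk (C (c v)) v ≠ 2047) :
    Pat θ H c := by
  have key : ∀ v : Fin n, ∃ g ∈ H, θ g (rep (c v)) = v := by
    intro v
    obtain ⟨_, ⟨g, hg, rfl⟩, h⟩ := orb_of_chk h0 hT (hchk (c v)) v (hcov v)
    exact ⟨g, hg, h⟩
  intro i j hij
  obtain ⟨g, hg, hgi⟩ := key i
  obtain ⟨k, hk, hkj⟩ := key j
  refine ⟨k * g⁻¹, H.mul_mem hk (H.inv_mem hg), ?_⟩
  rw [map_mul, Perm.mul_apply, map_inv]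
  have : (θ g)⁻¹ i = rep (c i) := Perm.inv_eq_iff_eq.2 hgi.symm
  rw [this, hij, hkj]

end Cfsg.Agent.H38.OrbKit
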