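import Cfsg.Agent.H524.RegTool
import Cfsg.Agent.H524.SporPrim
import Cfsg.Agent.H149.Sp.HNEleven
import Cfsg.Agent.H149.Sp.Th

/-!
# `RegAll` for the Harada-Norton and Thompson groups (helper38, for S4129)
-/

set_option autoImplicit false

namespace Cfsg.Agent.H38.RegHNTh

open Subgroup Cfsg Cfsg.Agent.H524.DirRed Cfsg.Agent.H524.RegTool Cfsg.Agent.H149

theorem mem_of_dvd {q : ℕ} (hq : q.Prime) {N k : ℕ} (L : List ℕ) (hL : ∀ a ∈ L, a.Prime) (hk : N ∣ L.prod ^ k)
    (hd : q ∣ N) : q ∈ L := by
  obtain ⟨a, ha, h⟩ := (Prime.dvd_prod_iff hq.prime).1 (hq.dvd_of_dvd_pow (hd.trans hk))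
  rwa [(Nat.prime_dvd_prime_iff_eq hq (hL a ha)).1 h]

/-- all `q` in a list are handled by one element of prime order `r ≠ p` -/
theorem regB_of_list {S : Type*} [Group S] [Finite S] {N c p r : ℕ} (hN : Nat.card S = N) (hp : p.Prime) (hr : r.Prime)
    (hrp : r ≠ p) {x : S} (hx : orderOf x = r) (hc : Nat.card (centralizer ({x} : Set S)) ∣ c) (L : List (ℕ × ℕ))
    (hL : ∀ a ∈ L, a.1.Prime ∧ a.1 ^ a.2 ∣ N ∧ ¬ a.1 ^ a.2 ∣ c) {q e : ℕ} (hq : (q, e) ∈ L) : RegB S p q := by
  obtain ⟨h1, h2, h3⟩ := hL _ hq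
  refine RegB.of_dvd (N := c) h1 ?_ hc (hN ▸ h2) h3
  rw [hx]
  exact fun h => hrp ((Nat.prime_dvd_prime_iff_eq hp hr).1 h).symm

theorem regAll_hn {G : Type*} [Group G] [Finite G] (h : Spor.IsoHN G) : RegAll G := by
  obtain ⟨e⟩ := h
  refine RegAll.congr e.symm ?_
  have hN := Sp.card_hn
  have hfin : Finite Spor.HN := Nat.finite_of_card_ne_zero (by rw [hN]; norm_num)
  intro p q hp hq hpq hd
  obtain ⟨a, ha, hca⟩ := Sp.exists_hn_seven
  have hz : orderOf HN.XWords.W0 = 2 := orderOf_eq_prime (by rw [pow_two, HN.XWords.W0_sq]) KFacts.HN.PCard.W0_ne_one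
  have hcz : Nat.card (centralizer ({HN.XWords.W0} : Set Spor.HN)) ∣ 3686400 := by
    rw [KFacts.HN.PCard.card_centralizer]
  have hqL : q ∈ [2, 3, 5, 7, 11, 19] := mem_of_dvd hq (N := 273030912000000) (k := 14) _
    (by intro a ha; fin_cases ha <;> norm_num) (by norm_num) (hN ▸ hd)
  by_cases hp2 : p = 2
  · subst hp2
    by_cases hq7 : q = 7
    · subst hq7
      exact RegB.of_not_adj hp hq (r := 11) (by norm_num) (by norm_num) (by norm_num) (by rw [hN]; norm_num) hd
        (fun h => by
          obtain ⟨-, -, -, x, y, hx, hy, hxy⟩ := h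
          refine Sp.hn_not_adj_seven (p := 11) (by norm_num) (by norm_num) ⟨y * x, ?_⟩
          rw [hxy.symm.orderOf_mul_eq_mul_orderOf_of_coprime (by rw [hx, hy]; norm_num), hx, hy])
    · have key : ∀ e, (q, e) ∈ [(3, 6), (5, 6), (11, 1), (19, 1)] → RegB Spor.HN 2 q := fun e he =>
        regB_of_list hN hp (by norm_num : Nat.Prime 7) (by norm_num) ha hca _
          (by intro a ha; fin_cases ha <;> norm_num) he
      simp only [List.mem_cons, List.not_mem_nil, or_false] at hqL
      rcases hqL with rfl | rfl | rfl | rfl | rfl | rfl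
      · exact absurd rfl hpq
      · exact key 6 (by simp)
      · exact key 6 (by simp)
      · exact absurd rfl hq7
      · exact key 1 (by simp)
      · exact key 1 (by simp)
  · have key : ∀ e, (q, e) ∈ [(3, 6), (5, 6), (7, 1), (11, 1), (19, 1)] → RegB Spor.HN p q := fun e he =>
      regB_of_list hN hp Nat.prime_two (Ne.symm hp2) hz hcz _ (by intro a ha; fin_cases ha <;> norm_num) he
    simp only [List.mem_cons, List.not_mem_nil, or_false] at hqL
    rcases hqL with rfl | rfl | rfl | rfl | rfl | rfl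
    · by_cases hp7 : p = 7
      · subst hp7
        exact RegB.two_of_na hp (r := 19) (by norm_num) (by norm_num) (by norm_num) (by rw [hN]; norm_num) hd
          Sp.na_hn_19
      · exact regB_of_list hN hp (by norm_num : Nat.Prime 7) (Ne.symm hp7) ha hca [(2, 14)]
          (by intro a ha; fin_cases ha; norm_num) (e := 14) (by simp)
    · exact key 6 (by simp)
    · exact key 6 (by simp)
    · exact key 1 (by simp)
    · exact key 1 (by simp)
    · exact key 1 (by simp)

theorem regAll_th {G : Type*} [Group G] [Finite G] (h : Spor.IsoTh G) : RegAll G := by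
  obtain ⟨e⟩ := h
  refine RegAll.congr e.symm ?_
  have hN : Nat.card Spor.Th = 90745943887872000 := Cfsg.Agent.S1700.result.2
  have hfin : Finite Spor.Th := Nat.finite_of_card_ne_zero (by rw [hN]; norm_num)
  intro p q hp hq hpq hd
  obtain ⟨a, ha, hca⟩ := Sp.exists_th_seven
  have hz : orderOf (Th.IndexUpper.gTh 1) = 2 := MonsterX.ThOneClass.orderOf_a
  have hcz : Nat.card (centralizer ({Th.IndexUpper.gTh 1} : Set Spor.Th)) ∣ 92897280 := by
    rw [MonsterX.ThOneClass.card_centralizer hz]
  have hqL : q ∈ [2, 3, 5, 7, 13, 19, 31] := mem_of_dvd hq (N := 90745943887872000) (k := 15) _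
    (by intro a ha; fin_cases ha <;> norm_num) (by norm_num) (hN ▸ hd)
  by_cases hp2 : p = 2
  · subst hp2
    by_cases hq7 : q = 7
    · subst hq7
      have : Fact (Nat.Prime 31) := ⟨by norm_num⟩
      obtain ⟨u, hu⟩ := exists_prime_orderOf_dvd_card' (G := Spor.Th) 31 (by rw [hN]; norm_num)
      refine ⟨u, by rw [hu]; norm_num, ?_⟩
      by_contra hc
      obtain ⟨g, hg⟩ := exists_conj_comm hq hc (y := a) (k := 1) (by rw [ha]; norm_num)
      have h1 : g⁻¹ * u * g ∈ centralizer ({a} : Set Spor.Th) := by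
        rw [mem_centralizer_singleton_iff]
        have h2 : u * (g * a * g⁻¹) = g * a * g⁻¹ * u := hg
        calc g⁻¹ * u * g * a = g⁻¹ * (u * (g * a * g⁻¹)) * g := by group
          _ = g⁻¹ * (g * a * g⁻¹ * u) * g := by rw [h2]
          _ = a * (g⁻¹ * u * g) := by group
      have h3 : orderOf (g⁻¹ * u * g) = 31 := by
        rw [← hu]
        have := orderOf_injective (MulAut.conj g⁻¹).toMonoidHom (MulAut.conj g⁻¹).injective u
        simpa using this
      have h4 : 31 ∣ Nat.card (centralizer ({a} : Set Spor.Th)) := by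
        have h10 : orderOf (⟨_, h1⟩ : centralizer ({a} : Set Spor.Th)) = 31 := by rw [← h3, ← orderOf_coe]
        exact h10 ▸ orderOf_dvd_natCard _
      have h5 := h4.trans hca
      norm_num at h5
    · have key : ∀ e, (q, e) ∈ [(3, 10), (5, 3), (13, 1), (19, 1), (31, 1)] → RegB Spor.Th 2 q := fun e he =>
        regB_of_list hN hp (by norm_num : Nat.Prime 7) (by norm_num) ha hca _
          (by intro a ha; fin_cases ha <;> norm_num) he
      simp only [List.mem_cons, List.not_mem_nil, or_false] at hqL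
      rcases hqL with rfl | rfl | rfl | rfl | rfl | rfl | rfl
      · exact absurd rfl hpq
      · exact key 10 (by simp)
      · exact key 3 (by simp)
      · exact absurd rfl hq7
      · exact key 1 (by simp)
      · exact key 1 (by simp)
      · exact key 1 (by simp)
  · have key : ∀ e, (q, e) ∈ [(3, 10), (5, 3), (7, 2), (13, 1), (19, 1), (31, 1)] → RegB Spor.Th p q := fun e he =>
      regB_of_list hN hp Nat.prime_two (Ne.symm hp2) hz hcz _ (by intro a ha; fin_cases ha <;> norm_num) he
    simp only [List.mem_cons, List.not_mem_nil, or_false] at hqL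
    rcases hqL with rfl | rfl | rfl | rfl | rfl | rfl | rfl
    · by_cases hp31 : p = 31
      · subst hp31
        exact RegB.two_of_na hp (r := 19) (by norm_num) (by norm_num) (by norm_num) (by rw [hN]; norm_num) hd
          (Sp.na_th_all (by norm_num))
      · exact RegB.two_of_na hp (r := 31) (by norm_num) (Ne.symm hp31) (by norm_num) (by rw [hN]; norm_num) hd
          (Sp.na_th_all (by norm_num))
    · exact key 10 (by simp)
    · exact key 3 (by simp)
    · exact key 2 (by simp)
    · exact key 1 (by simp)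
    · exact key 1 (by simp)
    · exact key 1 (by simp)

end Cfsg.Agent.H38.RegHNTh
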